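import Mathlib

/-!
# Ring-theoretic lemmas for categorical quotients of affine schemes

`QHom φ`: `φ` is injective and surjective on prime spectra; this is stable under localization
away from an element.  `mem_range_of_eq`: equalizers commute with localization away from an
element of the equalizer.
-/

set_option autoImplicit false

universe u

namespace Groth.Agent.Lib.Helper28.CatQuot

/-- An injective ring homomorphism which is surjective on prime spectra. -/
structure QHom {R R' : Type u} [CommRing R] [CommRing R'] (φ : R →+* R') : Prop where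
  inj : Function.Injective φ
  surj : Function.Surjective (PrimeSpectrum.comap φ)

theorem QHom.away {R R' : Type u} [CommRing R] [CommRing R'] {φ : R →+* R'} (h : QHom φ) (x : R)
    (S S' : Type u) [CommRing S] [Algebra R S] [IsLocalization.Away x S]
    [CommRing S'] [Algebra R' S'] [IsLocalization.Away (φ x) S'] (φ' : S →+* S')
    (hφ' : φ'.comp (algebraMap R S) = (algebraMap R' S').comp φ) : QHom φ' := by
  have hsq : ∀ a : R, φ' (algebraMap R S a) = algebraMap R' S' (φ a) :=
    fun a => RingHom.congr_fun hφ' a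
  constructor
  · rw [injective_iff_map_eq_zero]
    intro s hs
    obtain ⟨⟨a, m⟩, hm⟩ := IsLocalization.surj (Submonoid.powers x) s
    have hm' : s * algebraMap R S ↑m = algebraMap R S a := hm
    have h1 : algebraMap R' S' (φ a) = 0 := by
      rw [← hsq, ← hm', map_mul, hs, zero_mul]
    obtain ⟨⟨_, j, rfl⟩, hj⟩ :=
      (IsLocalization.map_eq_zero_iff (Submonoid.powers (φ x)) S' (φ a)).1 h1
    have hj' : φ x ^ j * φ a = 0 := hj
    have h2 : x ^ j * a = 0 := h.inj (by rw [map_mul, map_pow, map_zero]; exact hj')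
    have h3 : algebraMap R S a = 0 :=
      (IsLocalization.map_eq_zero_iff (Submonoid.powers x) S a).2 ⟨⟨x ^ j, j, rfl⟩, h2⟩
    rw [h3] at hm'
    exact (IsLocalization.map_units S m).mul_left_eq_zero.1 hm'
  · intro p'
    have hxp : x ∉ (PrimeSpectrum.comap (algebraMap R S) p').asIdeal := by
      intro hx
      have hx' : algebraMap R S x ∈ p'.asIdeal := hx
      exact p'.2.ne_top
        (Ideal.eq_top_of_isUnit_mem _ hx' (IsLocalization.Away.algebraMap_isUnit x))
    obtain ⟨q, hq⟩ := h.surj (PrimeSpectrum.comap (algebraMap R S) p')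
    have hxq : φ x ∉ q.asIdeal := by
      intro hx
      apply hxp
      rw [← hq]
      exact hx
    have hdisj : Disjoint (Submonoid.powers (φ x) : Set R') ↑q.asIdeal :=
      (Ideal.disjoint_powers_iff_notMem_of_isPrime (φ x)).2 hxq
    have hprime : (Ideal.map (algebraMap R' S') q.asIdeal).IsPrime :=
      IsLocalization.isPrime_of_isPrime_disjoint (Submonoid.powers (φ x)) S' _ q.2 hdisj
    refine ⟨⟨Ideal.map (algebraMap R' S') q.asIdeal, hprime⟩, ?_⟩
    apply PrimeSpectrum.localization_comap_injective S (Submonoid.powers x)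
    rw [← PrimeSpectrum.comap_comp_apply, hφ', PrimeSpectrum.comap_comp_apply, ← hq]
    congr 1
    apply PrimeSpectrum.ext
    exact IsLocalization.under_map_of_isPrime_disjoint (Submonoid.powers (φ x)) S' q.2 hdisj

/-- Equalizers commute with localization away from an element of the equalizer. -/
theorem mem_range_of_eq {C B T : Type u} [CommRing C] [CommRing B] [CommRing T]
    (φ : C →+* B) (ρ incl : B →+* T) (H0 : ρ.comp φ = incl.comp φ)
    (H2 : ∀ b : B, ρ b = incl b → ∃ c : C, φ c = b) (c : C)
    (SC SB L : Type u) [CommRing SC] [Algebra C SC] [IsLocalization.Away c SC]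
    [CommRing SB] [Algebra B SB] [IsLocalization.Away (φ c) SB]
    [CommRing L] [Algebra T L] [IsLocalization.Away (incl (φ c)) L]
    (φc : SC →+* SB) (hφc : φc.comp (algebraMap C SC) = (algebraMap B SB).comp φ)
    (ρc inclc : SB →+* L) (hρc : ρc.comp (algebraMap B SB) = (algebraMap T L).comp ρ)
    (hinclc : inclc.comp (algebraMap B SB) = (algebraMap T L).comp incl)
    (s : SB) (hs : ρc s = inclc s) : ∃ w : SC, φc w = s := by
  have e0 : ρ (φ c) = incl (φ c) := RingHom.congr_fun H0 c
  have sφ : ∀ a : C, φc (algebraMap C SC a) = algebraMap B SB (φ a) :=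
    fun a => RingHom.congr_fun hφc a
  have sρ : ∀ b : B, ρc (algebraMap B SB b) = algebraMap T L (ρ b) :=
    fun b => RingHom.congr_fun hρc b
  have si : ∀ b : B, inclc (algebraMap B SB b) = algebraMap T L (incl b) :=
    fun b => RingHom.congr_fun hinclc b
  obtain ⟨⟨b, ⟨_, n, rfl⟩⟩, hb⟩ := IsLocalization.surj (Submonoid.powers (φ c)) s
  have hb' : s * algebraMap B SB (φ c ^ n) = algebraMap B SB b := hb
  have h1 : algebraMap T L (ρ b) = algebraMap T L (incl b) := by
    have r3 : ρc (algebraMap B SB (φ c ^ n)) = inclc (algebraMap B SB (φ c ^ n)) := by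
      simp only [sρ, si, map_pow, e0]
    rw [← sρ, ← si, ← hb', map_mul, map_mul, hs, r3]
  obtain ⟨⟨_, m, rfl⟩, hm⟩ :=
    (IsLocalization.eq_iff_exists (Submonoid.powers (incl (φ c))) L).1 h1
  have hm' : incl (φ c) ^ m * ρ b = incl (φ c) ^ m * incl b := hm
  have h2 : ρ (φ c ^ m * b) = incl (φ c ^ m * b) := by
    rw [map_mul, map_mul, map_pow, map_pow, e0, hm']
  obtain ⟨c', hc'⟩ := H2 _ h2
  let d : Submonoid.powers c := ⟨c ^ (m + n), m + n, rfl⟩
  refine ⟨IsLocalization.mk' SC c' d, ?_⟩
  have hu : IsUnit (algebraMap B SB (φ c ^ (m + n))) := by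
    rw [map_pow]; exact (IsLocalization.Away.algebraMap_isUnit (φ c)).pow _
  apply hu.mul_left_injective
  have e1 : algebraMap B SB (φ c ^ (m + n)) = φc (algebraMap C SC (c ^ (m + n))) := by
    simp only [sφ, map_pow]
  have e2 : φc (algebraMap C SC c') = algebraMap B SB (φ c ^ m * b) := by
    rw [sφ, hc']
  calc φc (IsLocalization.mk' SC c' d) * algebraMap B SB (φ c ^ (m + n))
      = φc (IsLocalization.mk' SC c' d * algebraMap C SC (c ^ (m + n))) := by rw [map_mul, e1]
    _ = φc (algebraMap C SC c') := by
        congr 1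
        exact IsLocalization.mk'_spec SC c' d
    _ = algebraMap B SB (φ c ^ m) * algebraMap B SB b := by rw [e2, map_mul]
    _ = algebraMap B SB (φ c ^ m) * (s * algebraMap B SB (φ c ^ n)) := by rw [hb']
    _ = s * algebraMap B SB (φ c ^ (m + n)) := by rw [pow_add, map_mul]; ring

/-- Lifting a ring homomorphism through an injective one containing its range. -/
theorem exists_lift_of_range {R₀ S S' : Type u} [CommRing R₀] [CommRing S] [CommRing S']
    (θ : R₀ →+* S') (φ' : S →+* S') (hinj : Function.Injective φ')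
    (h : ∀ r, ∃ w, φ' w = θ r) : ∃ θ' : R₀ →+* S, φ'.comp θ' = θ := by
  choose w hw using h
  refine ⟨{ toFun := w, map_one' := ?_, map_mul' := ?_, map_zero' := ?_, map_add' := ?_ }, ?_⟩
  · apply hinj; rw [hw, map_one, map_one]
  · intro a b; apply hinj; rw [hw, map_mul, map_mul, hw, hw]
  · apply hinj; rw [hw, map_zero, map_zero]
  · intro a b; apply hinj; rw [hw, map_add, map_add, hw, hw]
  · ext r; exact hw r

end Groth.Agent.Lib.Helper28.CatQuot
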