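import Mathlib
import Groth.Prelude.Def_W4bk4git07Quot
import Groth.Agent.Lib.Helper28.CatQuot.Ring

/-!
# Categorical quotients of general schemes (Mumford, GIT, §0.2 Remark (6))

A morphism `f : X ⟶ Y` which is surjective, identifies `O_Y` with the invariant functions, and
sends closed invariant sets to closed sets compatibly with intersections, is a categorical quotient.
-/

set_option autoImplicit false

universe u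

open CategoryTheory AlgebraicGeometry Limits MonoidalCategory CartesianMonoidalCategory

namespace Groth.Agent.Lib.Helper28.CatQuot

/-- Surjective on points and injective on sections over every open. -/
structure SI {X Y : Scheme.{u}} (f : X ⟶ Y) : Prop where
  surj : Function.Surjective f.base
  inj : ∀ U : Y.Opens, Function.Injective (f.app U)

lemma SI.restrict {X Y : Scheme.{u}} {f : X ⟶ Y} (h : SI f) (U : Y.Opens) : SI (f ∣_ U) := by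
  refine ⟨?_, ?_⟩
  · rintro ⟨y, hy⟩
    obtain ⟨x, rfl⟩ := h.surj y
    exact ⟨⟨x, hy⟩, Subtype.ext (morphismRestrict_base_coe f U ⟨x, hy⟩)⟩
  · intro V
    rw [morphismRestrict_app]
    have h1 := h.inj (U.ι ''ᵁ V)
    have h2 : Function.Injective
        (X.presheaf.map (eqToHom (image_morphismRestrict_preimage f U V)).op) :=
      (ConcreteCategory.bijective_of_isIso _).1
    intro s t hst
    apply h1
    apply h2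
    exact hst

lemma exists_affineOpen_mem {Z : Scheme.{u}} (z : Z) : ∃ V : Z.Opens, IsAffineOpen V ∧ z ∈ V := by
  obtain ⟨V, hV, hzV, -⟩ := (TopologicalSpace.Opens.isBasis_iff_nbhd.1 Z.isBasis_affineOpens)
      (show z ∈ (⊤ : Z.Opens) from trivial)
  exact ⟨V, hV, hzV⟩

theorem SI.epi {X Y : Scheme.{u}} {f : X ⟶ Y} (h : SI f) : Epi f := by
  refine ⟨fun {Z} g₁ g₂ hg => ?_⟩
  have hpt : ∀ y : Y, g₁ y = g₂ y := by
    intro y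
    obtain ⟨x, rfl⟩ := h.surj y
    have := congrArg (fun t : X ⟶ Z => t x) hg
    simpa using this
  apply Scheme.hom_ext_of_forall
  intro y
  obtain ⟨V, hV, hyV⟩ := exists_affineOpen_mem (g₁ y)
  have e₂ : g₁ ⁻¹ᵁ V ≤ g₂ ⁻¹ᵁ V := by
    intro y' hy'
    show g₂ y' ∈ V
    rw [← hpt y']; exact hy'
  refine ⟨g₁ ⁻¹ᵁ V, hyV, ?_⟩
  have hr := h.restrict (g₁ ⁻¹ᵁ V)
  haveI : IsAffine V.toScheme := hV
  have key : g₁.resLE V (g₁ ⁻¹ᵁ V) le_rfl = g₂.resLE V (g₁ ⁻¹ᵁ V) e₂ := by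
    apply ext_of_isAffine
    have e3 : (f ∣_ (g₁ ⁻¹ᵁ V)) ≫ g₁.resLE V (g₁ ⁻¹ᵁ V) le_rfl =
        (f ∣_ (g₁ ⁻¹ᵁ V)) ≫ g₂.resLE V (g₁ ⁻¹ᵁ V) e₂ := by
      rw [← cancel_mono V.ι, Category.assoc, Category.assoc, Scheme.Hom.resLE_comp_ι,
        Scheme.Hom.resLE_comp_ι, morphismRestrict_ι_assoc, morphismRestrict_ι_assoc, hg]
    have e4 := congrArg Scheme.Hom.appTop e3
    rw [Scheme.Hom.comp_appTop, Scheme.Hom.comp_appTop] at e4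
    apply CommRingCat.hom_ext
    apply RingHom.ext
    intro r
    apply hr.inj ⊤
    exact congrArg (fun t => t.hom r) e4
  rw [← Scheme.Hom.resLE_comp_ι g₁ (le_refl (g₁ ⁻¹ᵁ V)), ← Scheme.Hom.resLE_comp_ι g₂ e₂, key]

theorem exists_glue {Y Z : Scheme.{u}} {ι : Type u} (U : ι → Y.Opens)
    (hU : TopologicalSpace.IsOpenCover U) (χ : ∀ i, (U i).toScheme ⟶ Z)
    (hχ : ∀ i j, Y.homOfLE (inf_le_left : U i ⊓ U j ≤ U i) ≫ χ i =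
      Y.homOfLE (inf_le_right : U i ⊓ U j ≤ U j) ≫ χ j) :
    ∃ g : Y ⟶ Z, ∀ i, (U i).ι ≫ g = χ i := by
  have hf : ∀ i j, pullback.fst (U i).ι (U j).ι ≫ χ i = pullback.snd (U i).ι (U j).ι ≫ χ j := by
    intro i j
    have P := isPullback_opens_inf (U i) (U j)
    rw [← cancel_epi P.isoPullback.hom, P.isoPullback_hom_fst_assoc, P.isoPullback_hom_snd_assoc]
    exact hχ i j
  exact ⟨(Y.openCoverOfIsOpenCover U hU).glueMorphisms χ hf,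
    fun i => (Y.openCoverOfIsOpenCover U hU).ι_glueMorphisms χ hf i⟩

lemma appLE_congr_hom {X Y : Scheme.{u}} {f g : X ⟶ Y} (h : f = g) (U : Y.Opens) (V : X.Opens)
    (e₁ : V ≤ f ⁻¹ᵁ U) (e₂ : V ≤ g ⁻¹ᵁ U) : f.appLE U V e₁ = g.appLE U V e₂ := by
  subst h; rfl

@[reassoc]
lemma restrict_homOfLE {X Y : Scheme.{u}} (f : X ⟶ Y) {U' U : Y.Opens} (e : U' ≤ U) :
    (f ∣_ U') ≫ Y.homOfLE e =
      X.homOfLE (show f ⁻¹ᵁ U' ≤ f ⁻¹ᵁ U from fun _ hx => e hx) ≫ (f ∣_ U) := by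
  rw [← cancel_mono U.ι, Category.assoc, Category.assoc, Scheme.homOfLE_ι, morphismRestrict_ι,
    morphismRestrict_ι, Scheme.homOfLE_ι_assoc]

theorem exists_local_desc_general {X Y Z GX : Scheme.{u}} (f : X ⟶ Y) (σ p : GX ⟶ X) (ψ : X ⟶ Z)
    (hψ : σ ≫ ψ = p ≫ ψ) (U : Y.Opens) (V : Z.Opens) (hV : IsAffineOpen V)
    (hUV : f ⁻¹ᵁ U ≤ ψ ⁻¹ᵁ V)
    (hinj : Function.Injective (f.app U))
    (hrange : ∀ s : Γ(X, f ⁻¹ᵁ U),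
      σ.appLE (f ⁻¹ᵁ U) (σ ⁻¹ᵁ (f ⁻¹ᵁ U) ⊓ p ⁻¹ᵁ (f ⁻¹ᵁ U)) inf_le_left s =
        p.appLE (f ⁻¹ᵁ U) (σ ⁻¹ᵁ (f ⁻¹ᵁ U) ⊓ p ⁻¹ᵁ (f ⁻¹ᵁ U)) inf_le_right s →
      ∃ t, f.app U t = s) :
    ∃ χ : U.toScheme ⟶ Z, (f ∣_ U) ≫ χ = (f ⁻¹ᵁ U).ι ≫ ψ := by
  have hinvar : ψ.appLE V (f ⁻¹ᵁ U) hUV ≫
      σ.appLE (f ⁻¹ᵁ U) (σ ⁻¹ᵁ (f ⁻¹ᵁ U) ⊓ p ⁻¹ᵁ (f ⁻¹ᵁ U)) inf_le_left =
      ψ.appLE V (f ⁻¹ᵁ U) hUV ≫
      p.appLE (f ⁻¹ᵁ U) (σ ⁻¹ᵁ (f ⁻¹ᵁ U) ⊓ p ⁻¹ᵁ (f ⁻¹ᵁ U)) inf_le_right := by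
    rw [Scheme.Hom.appLE_comp_appLE, Scheme.Hom.appLE_comp_appLE]
    exact appLE_congr_hom hψ _ _ _ _
  have hr : ∀ r : Γ(Z, V), ∃ t, (f.app U).hom t = (ψ.appLE V (f ⁻¹ᵁ U) hUV).hom r := by
    intro r
    exact hrange _ (congrArg (fun t => t.hom r) hinvar)
  obtain ⟨θ', hθ'⟩ := exists_lift_of_range (ψ.appLE V (f ⁻¹ᵁ U) hUV).hom (f.app U).hom hinj hr
  have e5 : CommRingCat.ofHom θ' ≫ f.app U = ψ.appLE V (f ⁻¹ᵁ U) hUV := by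
    apply CommRingCat.hom_ext
    exact hθ'
  refine ⟨U.toSpecΓ ≫ Spec.map (CommRingCat.ofHom θ') ≫ hV.fromSpec, ?_⟩
  rw [← Scheme.Opens.toSpecΓ_naturality_assoc, ← Category.assoc (Spec.map (f.app U)),
    ← Spec.map_comp, e5, Scheme.Opens.toSpecΓ_SpecMap_appLE_assoc, hV.toSpecΓ_fromSpec,
    Scheme.Hom.resLE_comp_ι]

theorem exists_desc_general {X Y Z GX : Scheme.{u}} (f : X ⟶ Y) (σ p : GX ⟶ X) (hSI : SI f)
    (hrange : ∀ (U : Y.Opens) (s : Γ(X, f ⁻¹ᵁ U)),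
      σ.appLE (f ⁻¹ᵁ U) (σ ⁻¹ᵁ (f ⁻¹ᵁ U) ⊓ p ⁻¹ᵁ (f ⁻¹ᵁ U)) inf_le_left s =
        p.appLE (f ⁻¹ᵁ U) (σ ⁻¹ᵁ (f ⁻¹ᵁ U) ⊓ p ⁻¹ᵁ (f ⁻¹ᵁ U)) inf_le_right s →
      ∃ t, f.app U t = s)
    (hiii : ∀ W : Set X, IsClosed W → σ.base '' (p.base ⁻¹' W) ⊆ W → IsClosed (f.base '' W))
    (hiii' : ∀ (J : Type u) (W : J → Set X),
      (∀ i, IsClosed (W i) ∧ σ.base '' (p.base ⁻¹' W i) ⊆ W i) →
      f.base '' (⋂ i, W i) = ⋂ i, f.base '' W i)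
    (ψ : X ⟶ Z) (hψ : σ ≫ ψ = p ≫ ψ) : ∃ χ : Y ⟶ Z, f ≫ χ = ψ := by
  classical
  let Wc : Z.affineOpens → Set X := fun V => ((ψ ⁻¹ᵁ V.1 : X.Opens) : Set X)ᶜ
  have hWc : ∀ V, IsClosed (Wc V) ∧ σ.base '' (p.base ⁻¹' Wc V) ⊆ Wc V := by
    intro V
    refine ⟨(ψ ⁻¹ᵁ V.1).2.isClosed_compl, ?_⟩
    rintro _ ⟨z, hz, rfl⟩
    intro h
    apply hz
    show ψ.base (p.base z) ∈ V.1
    have e : ψ.base (σ.base z) = ψ.base (p.base z) := congrArg (fun t : GX ⟶ Z => t.base z) hψ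
    rw [← e]; exact h
  let Uo : Z.affineOpens → Y.Opens := fun V =>
    ⟨(f.base '' Wc V)ᶜ, (hiii _ (hWc V).1 (hWc V).2).isOpen_compl⟩
  have hcover : TopologicalSpace.IsOpenCover Uo := by
    apply TopologicalSpace.IsOpenCover.mk
    rw [eq_top_iff]
    intro y _
    rw [TopologicalSpace.Opens.mem_iSup]
    by_contra hcon
    push Not at hcon
    have hy : y ∈ ⋂ V, f.base '' Wc V := by
      rw [Set.mem_iInter]
      intro V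
      by_contra h
      exact hcon V h
    rw [← hiii' _ Wc hWc] at hy
    obtain ⟨x, hx, -⟩ := hy
    obtain ⟨V, hV, hxV⟩ := exists_affineOpen_mem (ψ.base x)
    exact (Set.mem_iInter.1 hx ⟨V, hV⟩) hxV
  have hle : ∀ V, f ⁻¹ᵁ (Uo V) ≤ ψ ⁻¹ᵁ V.1 := by
    intro V x hx
    by_contra hx'
    exact hx ⟨x, hx', rfl⟩
  choose χ hχ using fun V => exists_local_desc_general f σ p ψ hψ (Uo V) V.1 V.2 (hle V)
    (hSI.inj _) (hrange _)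
  obtain ⟨g, hg⟩ := exists_glue Uo hcover χ (by
    intro V V'
    haveI := (hSI.restrict (Uo V ⊓ Uo V')).epi
    rw [← cancel_epi (f ∣_ (Uo V ⊓ Uo V')), restrict_homOfLE_assoc, restrict_homOfLE_assoc,
      hχ, hχ, Scheme.homOfLE_ι_assoc, Scheme.homOfLE_ι_assoc])
  refine ⟨g, ?_⟩
  apply Scheme.hom_ext_of_forall
  intro x
  obtain ⟨V, hV⟩ := hcover.exists_mem (f.base x)
  refine ⟨f ⁻¹ᵁ (Uo V), hV, ?_⟩
  rw [← morphismRestrict_ι_assoc, hg, hχ]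

end Groth.Agent.Lib.Helper28.CatQuot
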