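import Mathlib
import Groth.Prelude.Def_W4bk4git07Quot
import Groth.Agent.Lib.Helper28.CatQuot.General

/-!
# Mumford's criterion for categorical quotients; geometric quotients are categorical
-/

set_option autoImplicit false

universe u

open CategoryTheory AlgebraicGeometry Limits MonoidalCategory CartesianMonoidalCategory

namespace Groth.Agent.Lib.Helper28.CatQuot

theorem main_general (S : Scheme.{u}) (G X Y : Over S) [GrpObj G]
    (a : AlgGrp.Action G X) (φ : X ⟶ Y) (hi : GIT.IsInvariant a φ)
    (hii : ∀ U : Y.left.Opens,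
      Function.Injective (φ.left.app U) ∧ Set.range (φ.left.app U) = {f | GIT.IsInvSection a φ U f})
    (hiii : ∀ W : Set X.left, IsClosed W → a.act.left.base '' ((snd G X).left.base ⁻¹' W) ⊆ W →
      IsClosed (φ.left.base '' W))
    (hiii' : ∀ (J : Type u) (W : J → Set X.left),
      (∀ i, IsClosed (W i) ∧ a.act.left.base '' ((snd G X).left.base ⁻¹' W i) ⊆ W i) →
      φ.left.base '' (⋂ i, W i) = ⋂ i, φ.left.base '' W i) :
    GIT.IsCatQuot a φ ∧ Topology.IsQuotientMap φ.left.base := by
  have hsurj : Function.Surjective φ.left.base := by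
    have h0 := hiii' PEmpty (fun e => e.elim) (fun e => e.elim)
    rw [Set.iInter_of_empty, Set.iInter_of_empty, Set.image_univ] at h0
    exact Set.range_eq_univ.1 h0
  have hSI : SI φ.left := ⟨hsurj, fun U => (hii U).1⟩
  haveI := hSI.epi
  have hpt : ∀ z, φ.left.base (a.act.left.base z) = φ.left.base ((snd G X).left.base z) := by
    intro z
    exact congrArg (fun t : (G ⊗ X).left ⟶ Y.left => t.base z) hi.left
  refine ⟨⟨hi, fun Z ψ hψ => ?_⟩, ?_⟩
  · obtain ⟨χ, hχ⟩ := exists_desc_general φ.left a.act.left (snd G X).left hSI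
      (fun U s hs => by
        have : s ∈ Set.range (φ.left.app U) := by
          rw [(hii U).2]; exact hs
        exact this) hiii hiii' ψ.left hψ.left
    have hw : χ ≫ Z.hom = Y.hom := by
      rw [← cancel_epi φ.left, ← Category.assoc, hχ, Over.w, Over.w]
    refine ⟨Over.homMk χ hw, ?_, ?_⟩
    · apply Over.OverMorphism.ext
      simpa using hχ
    · intro χ' hχ'
      apply Over.OverMorphism.ext
      rw [← cancel_epi φ.left]
      have e : φ.left ≫ χ'.left = ψ.left := congrArg CommaMorphism.left hχ'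
      rw [e]
      exact hχ.symm
  · rw [Topology.isQuotientMap_iff_isClosed]
    refine ⟨hsurj, fun s => ⟨fun hs => hs.preimage φ.left.continuous, fun hs => ?_⟩⟩
    have := hiii _ hs (by
      rintro _ ⟨z, hz, rfl⟩
      show φ.left.base (a.act.left.base z) ∈ s
      rw [hpt z]; exact hz)
    rwa [Set.image_preimage_eq s hsurj] at this

theorem catQuot_of_geomQuot (S : Scheme.{u}) (G X Y : Over S) [GrpObj G] (a : AlgGrp.Action G X)
    (φ : X ⟶ Y) (h : GIT.IsGeomQuot a φ) : GIT.IsCatQuot a φ := by
  have hq : Topology.IsQuotientMap φ.left.base :=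
    (MorphismProperty.universally_le _) _ h.subm
  have hsat : ∀ W : Set X.left, a.act.left.base '' ((snd G X).left.base ⁻¹' W) ⊆ W →
      φ.left.base ⁻¹' (φ.left.base '' W) ⊆ W := by
    intro W hW x hx
    obtain ⟨w, hw, hwx⟩ := hx
    obtain ⟨z, hz1, hz2⟩ := Scheme.Pullback.exists_preimage_pullback (f := φ.left) (g := φ.left)
      x w hwx.symm
    obtain ⟨g, rfl⟩ := h.orbit z
    have h1 : a.act.left.base g = x := by
      rw [← hz1]
      have := congrArg (fun t : (G ⊗ X).left ⟶ X.left => t.base g)
        (pullback.lift_fst a.act.left (snd G X).left h.inv.left)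
      exact this.symm
    have h2 : (snd G X).left.base g = w := by
      rw [← hz2]
      have := congrArg (fun t : (G ⊗ X).left ⟶ X.left => t.base g)
        (pullback.lift_snd a.act.left (snd G X).left h.inv.left)
      exact this.symm
    apply hW
    exact ⟨g, by show (snd G X).left.base g ∈ W; rw [h2]; exact hw, h1⟩
  refine (main_general S G X Y a φ h.inv h.sections ?_ ?_).1
  · intro W hW hinv
    rw [← hq.isClosed_preimage]
    have : φ.left.base ⁻¹' (φ.left.base '' W) = W :=
      Set.Subset.antisymm (hsat W hinv) (Set.subset_preimage_image _ _)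
    rw [this]; exact hW
  · intro J W hW
    apply Set.Subset.antisymm
    · exact Set.image_iInter_subset _ _
    · intro y hy
      obtain ⟨x, rfl⟩ := h.surj y
      refine ⟨x, ?_, rfl⟩
      rw [Set.mem_iInter]
      intro i
      exact hsat (W i) (hW i).2 (Set.mem_iInter.1 hy i)

theorem univCatQuot_of_univGeomQuot (S : Scheme.{u}) (G X Y : Over S) [GrpObj G]
    (a : AlgGrp.Action G X) (φ : X ⟶ Y) (h : GIT.IsGeomQuot a φ) :
    GIT.IsCatQuot a φ ∧ (GIT.IsUnivGeomQuot a φ → GIT.IsUnivCatQuot a φ) := by
  refine ⟨catQuot_of_geomQuot S G X Y a φ h, fun hU => ⟨catQuot_of_geomQuot S G X Y a φ h, ?_⟩⟩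
  intro X' Y' pr φ' g hQ hpb a' ha' hinv'
  exact catQuot_of_geomQuot S G X' Y' a' φ' (hU.2 pr φ' g hQ hpb a' ha' hinv')

end Groth.Agent.Lib.Helper28.CatQuot
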