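import Mathlib
import Groth.Agent.Lib.Helper28.CatQuot.Ring

/-!
# Categorical quotients of affine schemes: the scheme-theoretic part

For ring maps `φ : C → B`, `ρ incl : B → T` such that `C` is the equalizer of `ρ` and `incl`, `φ` is
surjective on spectra, and invariant open covers of `Spec B` are refined by preimages of basic opens
of `Spec C`, every morphism `ψ : Spec B ⟶ Z` equalizing `Spec ρ` and `Spec incl` factors uniquely
through `Spec C`.
-/

set_option autoImplicit false

universe u

open CategoryTheory AlgebraicGeometry Limits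

namespace Groth.Agent.Lib.Helper28.CatQuot

lemma exists_fac {Z : Scheme.{u}} {V : Z.Opens} (hV : IsAffineOpen V) {S : CommRingCat.{u}}
    (g : Spec S ⟶ Z) (hg : Set.range g ⊆ (V : Set Z)) :
    ∃ θ : Γ(Z, V) ⟶ S, Spec.map θ ≫ hV.fromSpec = g := by
  have H : Set.range g ⊆ Set.range hV.fromSpec := by rw [hV.range_fromSpec]; exact hg
  refine ⟨Spec.preimage (IsOpenImmersion.lift hV.fromSpec g H), ?_⟩
  rw [Spec.map_preimage, IsOpenImmersion.lift_fac]

lemma awayMap_sq {R R' : Type u} [CommRing R] [CommRing R'] (φ : R →+* R') (g : R) :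
    (Localization.awayMap φ g).comp (algebraMap R (Localization.Away g)) =
      (algebraMap R' (Localization.Away (φ g))).comp φ :=
  IsLocalization.map_comp _

lemma spec_awayMap_sq {R R' : Type u} [CommRing R] [CommRing R'] (φ : R →+* R') (g : R) :
    Spec.map (CommRingCat.ofHom (Localization.awayMap φ g)) ≫
        Spec.map (CommRingCat.ofHom (algebraMap R (Localization.Away g))) =
      Spec.map (CommRingCat.ofHom (algebraMap R' (Localization.Away (φ g)))) ≫
        Spec.map (CommRingCat.ofHom φ) := by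
  rw [← Spec.map_comp, ← Spec.map_comp, ← CommRingCat.ofHom_comp, ← CommRingCat.ofHom_comp,
    awayMap_sq]

lemma notMem_comap_away {R : Type u} [CommRing R] (g : R)
    (x : PrimeSpectrum (Localization.Away g)) :
    g ∉ (PrimeSpectrum.comap (algebraMap R (Localization.Away g)) x).asIdeal := by
  intro hx
  have hx' : algebraMap R (Localization.Away g) g ∈ x.asIdeal := hx
  exact x.2.ne_top (Ideal.eq_top_of_isUnit_mem _ hx' (IsLocalization.Away.algebraMap_isUnit g))

theorem epi_of_qhom {R R' : Type u} [CommRing R] [CommRing R'] (φ : R →+* R') (h : QHom φ) :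
    Epi (Spec.map (CommRingCat.ofHom φ)) := by
  refine ⟨fun {Z} u v huv => ?_⟩
  have hpt : ∀ y : PrimeSpectrum R, u y = v y := by
    intro y
    obtain ⟨x, hx⟩ := h.surj y
    have hx' : (Spec.map (CommRingCat.ofHom φ)) x = y := hx
    rw [← hx', ← Scheme.Hom.comp_apply, ← Scheme.Hom.comp_apply, huv]
  have key : ∀ y : PrimeSpectrum R, ∃ g : R, g ∉ y.asIdeal ∧
      Spec.map (CommRingCat.ofHom (algebraMap R (Localization.Away g))) ≫ u =
      Spec.map (CommRingCat.ofHom (algebraMap R (Localization.Away g))) ≫ v := by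
    intro y
    obtain ⟨V, hV, hyV, -⟩ := (TopologicalSpace.Opens.isBasis_iff_nbhd.1 Z.isBasis_affineOpens)
      (show u y ∈ (⊤ : Z.Opens) from trivial)
    have hV' : IsAffineOpen V := hV
    let O : Set (PrimeSpectrum R) := {y' | u y' ∈ V ∧ v y' ∈ V}
    have hO : IsOpen O := (u ⁻¹ᵁ V).2.inter (v ⁻¹ᵁ V).2
    have hyO : y ∈ O := ⟨hyV, by rw [← hpt y]; exact hyV⟩
    obtain ⟨_, ⟨g, rfl⟩, hyg, hgO⟩ :=
      PrimeSpectrum.isTopologicalBasis_basic_opens.exists_subset_of_mem_open hyO hO
    refine ⟨g, hyg, ?_⟩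
    have hrange : ∀ x : PrimeSpectrum (Localization.Away g),
        PrimeSpectrum.comap (algebraMap R (Localization.Away g)) x ∈ O :=
      fun x => hgO (notMem_comap_away g x)
    obtain ⟨θu, hθu⟩ := exists_fac hV'
      (Spec.map (CommRingCat.ofHom (algebraMap R (Localization.Away g))) ≫ u) (by
        rintro _ ⟨x, rfl⟩
        rw [Scheme.Hom.comp_apply]
        exact (hrange x).1)
    obtain ⟨θv, hθv⟩ := exists_fac hV'
      (Spec.map (CommRingCat.ofHom (algebraMap R (Localization.Away g))) ≫ v) (by
        rintro _ ⟨x, rfl⟩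
        rw [Scheme.Hom.comp_apply]
        exact (hrange x).2)
    have hinj : Function.Injective (Localization.awayMap φ g) :=
      (h.away g (Localization.Away g) (Localization.Away (φ g)) _ (awayMap_sq φ g)).inj
    have e1 : Spec.map (CommRingCat.ofHom (Localization.awayMap φ g)) ≫ Spec.map θu ≫
        hV'.fromSpec = Spec.map (CommRingCat.ofHom (Localization.awayMap φ g)) ≫ Spec.map θv ≫
        hV'.fromSpec := by
      rw [hθu, hθv, ← Category.assoc, ← Category.assoc, spec_awayMap_sq, Category.assoc,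
        Category.assoc, huv]
    have e2 : θu ≫ CommRingCat.ofHom (Localization.awayMap φ g) =
        θv ≫ CommRingCat.ofHom (Localization.awayMap φ g) := by
      apply Spec.map_injective
      rw [Spec.map_comp, Spec.map_comp, ← cancel_mono hV'.fromSpec, Category.assoc,
        Category.assoc]
      exact e1
    have e3 : θu = θv := by
      apply CommRingCat.hom_ext
      apply RingHom.ext
      intro r
      apply hinj
      exact congrArg (fun t => t.hom r) e2
    rw [← hθu, ← hθv, e3]
  choose g hg1 hg2 using key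
  have hspan : Ideal.span (Set.range g) = ⊤ := by
    by_contra hne
    obtain ⟨m, hm, hle⟩ := Ideal.exists_le_maximal _ hne
    exact hg1 ⟨m, hm.isPrime⟩ (hle (Ideal.subset_span ⟨⟨m, hm.isPrime⟩, rfl⟩))
  exact (Scheme.affineOpenCoverOfSpanRangeEqTop (R := CommRingCat.of R) g hspan).openCover.hom_ext
    u v (fun y => hg2 y)

theorem exists_local_desc {C B T : Type u} [CommRing C] [CommRing B] [CommRing T]
    (φ : C →+* B) (ρ incl : B →+* T) (H0 : ρ.comp φ = incl.comp φ) (hQ : QHom φ)
    (H2 : ∀ b : B, ρ b = incl b → ∃ c : C, φ c = b)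
    {Z : Scheme.{u}} (ψ : Spec (CommRingCat.of B) ⟶ Z)
    (hψ : Spec.map (CommRingCat.ofHom ρ) ≫ ψ = Spec.map (CommRingCat.ofHom incl) ≫ ψ)
    (c : C) (V : Z.Opens) (hV : IsAffineOpen V)
    (hcV : ∀ q : PrimeSpectrum B, φ c ∉ q.asIdeal → ψ q ∈ V) :
    ∃ χ : Spec (CommRingCat.of (Localization.Away c)) ⟶ Z,
      Spec.map (CommRingCat.ofHom (Localization.awayMap φ c)) ≫ χ =
        Spec.map (CommRingCat.ofHom (algebraMap B (Localization.Away (φ c)))) ≫ ψ := by
  have e0 : ρ (φ c) = incl (φ c) := RingHom.congr_fun H0 c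
  have hunit : IsUnit (((algebraMap T (Localization.Away (incl (φ c)))).comp ρ) (φ c)) := by
    rw [RingHom.comp_apply, e0]
    exact IsLocalization.Away.algebraMap_isUnit (incl (φ c))
  obtain ⟨ρc, hρc⟩ : ∃ ρc : Localization.Away (φ c) →+* Localization.Away (incl (φ c)),
      ρc.comp (algebraMap B (Localization.Away (φ c))) =
        (algebraMap T (Localization.Away (incl (φ c)))).comp ρ :=
    ⟨IsLocalization.Away.lift (φ c) hunit, IsLocalization.Away.lift_comp (φ c) hunit⟩
  obtain ⟨θ, hθ⟩ := exists_fac hV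
    (Spec.map (CommRingCat.ofHom (algebraMap B (Localization.Away (φ c)))) ≫ ψ) (by
      rintro _ ⟨x, rfl⟩
      rw [Scheme.Hom.comp_apply]
      exact hcV _ (notMem_comap_away (φ c) x))
  have hsρ : Spec.map (CommRingCat.ofHom ρc) ≫
      Spec.map (CommRingCat.ofHom (algebraMap B (Localization.Away (φ c)))) =
      Spec.map (CommRingCat.ofHom (algebraMap T (Localization.Away (incl (φ c))))) ≫
        Spec.map (CommRingCat.ofHom ρ) := by
    rw [← Spec.map_comp, ← Spec.map_comp, ← CommRingCat.ofHom_comp, ← CommRingCat.ofHom_comp, hρc]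
  have e1 : Spec.map (CommRingCat.ofHom ρc) ≫ Spec.map θ ≫ hV.fromSpec =
      Spec.map (CommRingCat.ofHom (Localization.awayMap incl (φ c))) ≫ Spec.map θ ≫
        hV.fromSpec := by
    rw [hθ, ← Category.assoc, ← Category.assoc, hsρ, spec_awayMap_sq, Category.assoc,
      Category.assoc, hψ]
  have e2 : θ ≫ CommRingCat.ofHom ρc =
      θ ≫ CommRingCat.ofHom (Localization.awayMap incl (φ c)) := by
    apply Spec.map_injective
    rw [Spec.map_comp, Spec.map_comp, ← cancel_mono hV.fromSpec, Category.assoc, Category.assoc]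
    exact e1
  have hrange : ∀ r, ∃ w, Localization.awayMap φ c w = θ.hom r := by
    intro r
    exact mem_range_of_eq φ ρ incl H0 H2 c (Localization.Away c) (Localization.Away (φ c))
      (Localization.Away (incl (φ c))) (Localization.awayMap φ c) (awayMap_sq φ c) ρc
      (Localization.awayMap incl (φ c)) hρc (awayMap_sq incl (φ c)) (θ.hom r)
      (congrArg (fun t => t.hom r) e2)
  have hinj : Function.Injective (Localization.awayMap φ c) :=
    (hQ.away c (Localization.Away c) (Localization.Away (φ c)) _ (awayMap_sq φ c)).inj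
  obtain ⟨θ', hθ'⟩ := exists_lift_of_range θ.hom (Localization.awayMap φ c) hinj hrange
  refine ⟨Spec.map (CommRingCat.ofHom θ') ≫ hV.fromSpec, ?_⟩
  have e3 : CommRingCat.ofHom θ' ≫ CommRingCat.ofHom (Localization.awayMap φ c) = θ := by
    apply CommRingCat.hom_ext
    exact hθ'
  rw [← Category.assoc, ← Spec.map_comp, e3, hθ]

end Groth.Agent.Lib.Helper28.CatQuot
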