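import Mathlib
import Groth.Agent.Lib.Helper28.CatQuot.Scheme

/-!
# Categorical quotients of affine schemes: gluing the local descents
-/

set_option autoImplicit false

universe u

open CategoryTheory AlgebraicGeometry Limits

namespace Groth.Agent.Lib.Helper28.CatQuot

theorem overlap {C B : Type u} [CommRing C] [CommRing B] (φ : C →+* B) (hQ : QHom φ)
    {Z : Scheme.{u}} (ψ : Spec (CommRingCat.of B) ⟶ Z) (g f : C)
    (χg : Spec (CommRingCat.of (Localization.Away g)) ⟶ Z)
    (χf : Spec (CommRingCat.of (Localization.Away f)) ⟶ Z)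
    (hg : Spec.map (CommRingCat.ofHom (Localization.awayMap φ g)) ≫ χg =
      Spec.map (CommRingCat.ofHom (algebraMap B (Localization.Away (φ g)))) ≫ ψ)
    (hf : Spec.map (CommRingCat.ofHom (Localization.awayMap φ f)) ≫ χf =
      Spec.map (CommRingCat.ofHom (algebraMap B (Localization.Away (φ f)))) ≫ ψ) :
    pullback.fst (Spec.map (CommRingCat.ofHom (algebraMap C (Localization.Away g))))
        (Spec.map (CommRingCat.ofHom (algebraMap C (Localization.Away f)))) ≫ χg =
      pullback.snd _ _ ≫ χf := by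
  -- the rings
  let Cg := Localization.Away g
  let Cf := Localization.Away f
  let ιg : C →+* Cg := algebraMap C Cg
  let ιf : C →+* Cf := algebraMap C Cf
  let Cgf := Localization.Away (ιg f)
  let κg : Cg →+* Cgf := algebraMap Cg Cgf
  have hκu : IsUnit ((κg.comp ιg) f) := IsLocalization.Away.algebraMap_isUnit (ιg f)
  let κf : Cf →+* Cgf := IsLocalization.Away.lift f hκu
  have hκf : κf.comp ιf = κg.comp ιg := IsLocalization.Away.lift_comp f hκu
  let Bg := Localization.Away (φ g)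
  let Bf := Localization.Away (φ f)
  let ιBg : B →+* Bg := algebraMap B Bg
  let ιBf : B →+* Bf := algebraMap B Bf
  let Bgf := Localization.Away (ιBg (φ f))
  let κBg : Bg →+* Bgf := algebraMap Bg Bgf
  have hlu : IsUnit ((κBg.comp ιBg) (φ f)) := IsLocalization.Away.algebraMap_isUnit (ιBg (φ f))
  let lam : Bf →+* Bgf := IsLocalization.Away.lift (φ f) hlu
  have hlam : lam.comp ιBf = κBg.comp ιBg := IsLocalization.Away.lift_comp (φ f) hlu
  let φg : Cg →+* Bg := Localization.awayMap φ g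
  let φf : Cf →+* Bf := Localization.awayMap φ f
  have hφg : φg.comp ιg = ιBg.comp φ := awayMap_sq φ g
  have hφf : φf.comp ιf = ιBf.comp φ := awayMap_sq φ f
  have hφgι : φg (ιg f) = ιBg (φ f) := RingHom.congr_fun hφg f
  have hφu : IsUnit ((κBg.comp φg) (ιg f)) := by
    rw [RingHom.comp_apply, hφgι]
    exact IsLocalization.Away.algebraMap_isUnit (ιBg (φ f))
  let φgf : Cgf →+* Bgf := IsLocalization.Away.lift (ιg f) hφu
  have hφgf : φgf.comp κg = κBg.comp φg := IsLocalization.Away.lift_comp (ιg f) hφu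
  -- the pullback square on the `C` side
  haveI : IsLocalization ((Submonoid.powers f).map ιg) Cgf := by
    rw [Submonoid.map_powers]
    exact inferInstanceAs (IsLocalization.Away (ιg f) (Localization.Away (ιg f)))
  have hpo := CommRingCat.isPushout_of_isLocalization ιg κf hκf (Submonoid.powers f)
  have hpb := isPullback_SpecMap_of_isPushout _ _ _ _ hpo
  rw [← cancel_epi hpb.isoPullback.hom, IsPullback.isoPullback_hom_fst_assoc,
    IsPullback.isoPullback_hom_snd_assoc]
  -- epi on the double localization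
  have hQg : QHom φg := hQ.away g Cg Bg φg hφg
  haveI : IsLocalization.Away (φg (ιg f)) Bgf := by
    rw [hφgι]
    exact inferInstanceAs (IsLocalization.Away (ιBg (φ f)) (Localization.Away (ιBg (φ f))))
  have hQgf : QHom φgf := hQg.away (ιg f) Cgf Bgf φgf hφgf
  haveI := epi_of_qhom φgf hQgf
  rw [← cancel_epi (Spec.map (CommRingCat.ofHom φgf))]
  -- ring identities
  have r2 : φgf.comp κf = lam.comp φf := by
    apply IsLocalization.ringHom_ext (Submonoid.powers f)
    rw [RingHom.comp_assoc, RingHom.comp_assoc]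
    show φgf.comp (κf.comp ιf) = lam.comp (φf.comp ιf)
    rw [hκf, hφf, ← RingHom.comp_assoc, ← RingHom.comp_assoc, hφgf, hlam, RingHom.comp_assoc,
      hφg]
    rfl
  -- Spec-level identities
  have s1 : Spec.map (CommRingCat.ofHom φgf) ≫ Spec.map (CommRingCat.ofHom κg) =
      Spec.map (CommRingCat.ofHom κBg) ≫ Spec.map (CommRingCat.ofHom φg) := by
    rw [← Spec.map_comp, ← Spec.map_comp, ← CommRingCat.ofHom_comp, ← CommRingCat.ofHom_comp,
      hφgf]
  have s2 : Spec.map (CommRingCat.ofHom φgf) ≫ Spec.map (CommRingCat.ofHom κf) =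
      Spec.map (CommRingCat.ofHom lam) ≫ Spec.map (CommRingCat.ofHom φf) := by
    rw [← Spec.map_comp, ← Spec.map_comp, ← CommRingCat.ofHom_comp, ← CommRingCat.ofHom_comp, r2]
  have s3 : Spec.map (CommRingCat.ofHom lam) ≫ Spec.map (CommRingCat.ofHom ιBf) =
      Spec.map (CommRingCat.ofHom κBg) ≫ Spec.map (CommRingCat.ofHom ιBg) := by
    rw [← Spec.map_comp, ← Spec.map_comp, ← CommRingCat.ofHom_comp, ← CommRingCat.ofHom_comp,
      hlam]
  calc Spec.map (CommRingCat.ofHom φgf) ≫ Spec.map (CommRingCat.ofHom κg) ≫ χg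
      = (Spec.map (CommRingCat.ofHom κBg) ≫ Spec.map (CommRingCat.ofHom φg)) ≫ χg := by
        rw [← Category.assoc, s1]
    _ = Spec.map (CommRingCat.ofHom κBg) ≫ Spec.map (CommRingCat.ofHom ιBg) ≫ ψ := by
        rw [Category.assoc]; exact congrArg (fun t => Spec.map (CommRingCat.ofHom κBg) ≫ t) hg
    _ = (Spec.map (CommRingCat.ofHom lam) ≫ Spec.map (CommRingCat.ofHom ιBf)) ≫ ψ := by
        rw [s3, Category.assoc]
    _ = Spec.map (CommRingCat.ofHom lam) ≫ Spec.map (CommRingCat.ofHom φf) ≫ χf := by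
        rw [Category.assoc]; exact congrArg (fun t => Spec.map (CommRingCat.ofHom lam) ≫ t) hf.symm
    _ = Spec.map (CommRingCat.ofHom φgf) ≫ Spec.map (CommRingCat.ofHom κf) ≫ χf := by
        rw [← Category.assoc, ← s2, Category.assoc]

/-- The abstract categorical quotient theorem. -/
theorem existsUnique_desc {C B T : Type u} [CommRing C] [CommRing B] [CommRing T]
    (φ : C →+* B) (ρ incl : B →+* T) (H0 : ρ.comp φ = incl.comp φ) (hQ : QHom φ)
    (H2 : ∀ b : B, ρ b = incl b → ∃ c : C, φ c = b)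
    (H4 : ∀ (κ : Type u) (U : κ → Set (PrimeSpectrum B)), (∀ i, IsOpen (U i)) →
      (∀ i, PrimeSpectrum.comap ρ ⁻¹' U i = PrimeSpectrum.comap incl ⁻¹' U i) →
      (∀ q, ∃ i, q ∈ U i) →
      ∀ p : PrimeSpectrum C, ∃ i, ∃ c : C, c ∉ p.asIdeal ∧
        ∀ q : PrimeSpectrum B, φ c ∉ q.asIdeal → q ∈ U i)
    (Z : Scheme.{u}) (ψ : Spec (CommRingCat.of B) ⟶ Z)
    (hψ : Spec.map (CommRingCat.ofHom ρ) ≫ ψ = Spec.map (CommRingCat.ofHom incl) ≫ ψ) :
    ∃! χ : Spec (CommRingCat.of C) ⟶ Z, Spec.map (CommRingCat.ofHom φ) ≫ χ = ψ := by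
  haveI := epi_of_qhom φ hQ
  suffices hex : ∃ χ : Spec (CommRingCat.of C) ⟶ Z, Spec.map (CommRingCat.ofHom φ) ≫ χ = ψ by
    obtain ⟨χ, hχ⟩ := hex
    exact ⟨χ, hχ, fun χ' hχ' => (cancel_epi _).1 (hχ'.trans hχ.symm)⟩
  -- the local data
  have hpsi : ∀ t : PrimeSpectrum T, ψ (PrimeSpectrum.comap ρ t) = ψ (PrimeSpectrum.comap incl t) := by
    intro t
    have h1 : (Spec.map (CommRingCat.ofHom ρ) ≫ ψ) t = ψ (PrimeSpectrum.comap ρ t) :=
      Scheme.Hom.comp_apply _ _ _
    have h2 : (Spec.map (CommRingCat.ofHom incl) ≫ ψ) t = ψ (PrimeSpectrum.comap incl t) :=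
      Scheme.Hom.comp_apply _ _ _
    rw [← h1, ← h2, hψ]
  have hloc := H4 {V : Z.Opens // IsAffineOpen V} (fun V => {q | ψ q ∈ V.1})
    (fun V => (ψ ⁻¹ᵁ V.1).2)
    (fun V => by
      ext t
      show ψ (PrimeSpectrum.comap ρ t) ∈ V.1 ↔ ψ (PrimeSpectrum.comap incl t) ∈ V.1
      rw [hpsi t])
    (fun q => by
      obtain ⟨V, hV, hqV, -⟩ := (TopologicalSpace.Opens.isBasis_iff_nbhd.1 Z.isBasis_affineOpens)
        (show ψ q ∈ (⊤ : Z.Opens) from trivial)
      exact ⟨⟨V, hV⟩, hqV⟩)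
  let I := {c : C // ∃ V : Z.Opens, IsAffineOpen V ∧
    ∀ q : PrimeSpectrum B, φ c ∉ q.asIdeal → ψ q ∈ V}
  let s : I → C := Subtype.val
  have hspan : Ideal.span (Set.range s) = ⊤ := by
    by_contra hne
    obtain ⟨m, hm, hle⟩ := Ideal.exists_le_maximal _ hne
    obtain ⟨V, c, hc, hcV⟩ := hloc ⟨m, hm.isPrime⟩
    exact hc (hle (Ideal.subset_span ⟨⟨c, V.1, V.2, hcV⟩, rfl⟩))
  have hχex : ∀ i : I, ∃ χ : Spec (CommRingCat.of (Localization.Away (s i))) ⟶ Z,
      Spec.map (CommRingCat.ofHom (Localization.awayMap φ (s i))) ≫ χ =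
        Spec.map (CommRingCat.ofHom (algebraMap B (Localization.Away (φ (s i))))) ≫ ψ := by
    intro i
    obtain ⟨V, hV, hcV⟩ := i.2
    exact exists_local_desc φ ρ incl H0 hQ H2 ψ hψ i.1 V hV hcV
  choose χ hχ using hχex
  let 𝒰 := (Scheme.affineOpenCoverOfSpanRangeEqTop (R := CommRingCat.of C) s hspan).openCover
  let χ₀ : Spec (CommRingCat.of C) ⟶ Z := 𝒰.glueMorphisms χ
    (fun i j => overlap φ hQ ψ (s i) (s j) (χ i) (χ j) (hχ i) (hχ j))
  have hχ₀ : ∀ i : I, Spec.map (CommRingCat.ofHom (algebraMap C (Localization.Away (s i)))) ≫ χ₀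
      = χ i := fun i => 𝒰.ι_glueMorphisms χ _ i
  refine ⟨χ₀, ?_⟩
  have hspanB : Ideal.span (Set.range fun i : I => φ (s i)) = ⊤ := by
    have h1 : Set.range (fun i : I => φ (s i)) = φ '' Set.range s := Set.range_comp φ s
    rw [h1, ← Ideal.map_span, hspan, Ideal.map_top]
  refine (Scheme.affineOpenCoverOfSpanRangeEqTop (R := CommRingCat.of B)
    (fun i : I => φ (s i)) hspanB).openCover.hom_ext _ _ (fun i => ?_)
  show Spec.map (CommRingCat.ofHom (algebraMap B (Localization.Away (φ (s i))))) ≫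
    Spec.map (CommRingCat.ofHom φ) ≫ χ₀ =
    Spec.map (CommRingCat.ofHom (algebraMap B (Localization.Away (φ (s i))))) ≫ ψ
  rw [← Category.assoc, ← spec_awayMap_sq, Category.assoc, hχ₀ i, hχ i]

end Groth.Agent.Lib.Helper28.CatQuot
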