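import Mathlib
import Groth.Agent.Lib.Helper28.CatQuot.Glue
import Groth.Agent.Lib.Helper28.TameAct
import Groth.Agent.Lib.Helper28.SubcomodCore

/-!
# `Spec B → Spec B^A` is a categorical quotient when the coaction has a total integral
-/

set_option autoImplicit false

universe u

open CategoryTheory AlgebraicGeometry TensorProduct

namespace Groth.Agent.Lib.Helper28.CatQuot

open Groth.Agent.Lib.Helper28.TameAct Groth.Agent.Lib.Helper28.SubcomodCore

section

variable {k : Type u} [CommRing k] {A : Type u} [CommRing A] [HopfAlgebra k A]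
  {B : Type u} [CommRing B] [Algebra k B] [HopfRep.Comod k A B] [GLin.IsCoactAlg k A B]

variable (k A B) in
/-- the coaction as a ring homomorphism -/
noncomputable abbrev rhoR : B →+* B ⊗[k] A := (GLin.coactAlgHom k A B).toRingHom

variable (k A B) in
/-- `b ↦ b ⊗ 1` -/
abbrev inclR : B →+* B ⊗[k] A := Algebra.TensorProduct.includeLeftRingHom

variable (k A B) in
/-- inclusion of the invariants -/
abbrev phiR : GLin.invariants k A B →+* B := algebraMap (GLin.invariants k A B) B

lemma mem_map_incl_iff (b : Ideal B) (t : B ⊗[k] A) :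
    t ∈ Ideal.map (inclR k A B) b ↔
      t ∈ LinearMap.range ((b.restrictScalars k).subtype.rTensor A) := by
  rw [← Ideal.map_includeLeft_eq]
  rfl

variable (k A) in
/-- the largest invariant ideal contained in `b` -/
noncomputable def coreI (b : Ideal B) : Ideal B := (Ideal.map (inclR k A B) b).comap (rhoR k A B)

lemma mem_coreI_iff (b : Ideal B) (x : B) :
    x ∈ coreI k A b ↔ x ∈ core A (b.restrictScalars k) := by
  rw [mem_core_iff, coreI, Ideal.mem_comap, mem_map_incl_iff]
  rfl

lemma coreI_le (b : Ideal B) : coreI k A b ≤ b := by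
  intro x hx
  exact core_le (b.restrictScalars k) ((mem_coreI_iff b x).1 hx)

lemma isSubcomod_coreI [Module.Flat k A] (b : Ideal B) :
    HopfRep.IsSubcomod (k := k) (A := A) ((coreI k A b).restrictScalars k) := by
  have h : (coreI k A b).restrictScalars k = core A (b.restrictScalars k) := by
    ext x
    exact mem_coreI_iff b x
  rw [h]
  exact isSubcomod_core _

theorem H4_hopf [Module.Flat k A] (α : A →ₗ[k] B) (hα : Hoch.IsComodHom A α) (hα1 : α 1 = 1)
    (κ : Type u) (U : κ → Set (PrimeSpectrum B)) (hUo : ∀ i, IsOpen (U i))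
    (hUinv : ∀ i, PrimeSpectrum.comap (rhoR k A B) ⁻¹' U i =
      PrimeSpectrum.comap (inclR k A B) ⁻¹' U i)
    (hUcov : ∀ q, ∃ i, q ∈ U i) (p : PrimeSpectrum (GLin.invariants k A B)) :
    ∃ i, ∃ c : GLin.invariants k A B, c ∉ p.asIdeal ∧
      ∀ q : PrimeSpectrum B, phiR k A B c ∉ q.asIdeal → q ∈ U i := by
  let b : κ → Ideal B := fun i => PrimeSpectrum.vanishingIdeal (U i)ᶜ
  -- Fact 3
  have fact3 : ∀ i, PrimeSpectrum.zeroLocus (coreI k A (b i) : Set B) ⊆ (U i)ᶜ := by
    intro i
    have hcl : IsClosed (U i)ᶜ := (hUo i).isClosed_compl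
    have h1 := PrimeSpectrum.closure_image_comap_zeroLocus (f := rhoR k A B)
      (Ideal.map (inclR k A B) (b i))
    show PrimeSpectrum.zeroLocus
      (((Ideal.map (inclR k A B) (b i)).comap (rhoR k A B) : Ideal B) : Set B) ⊆ (U i)ᶜ
    rw [← h1]
    apply closure_minimal _ hcl
    rintro _ ⟨t, ht, rfl⟩
    rw [PrimeSpectrum.mem_zeroLocus] at ht
    have h2 : b i ≤ (PrimeSpectrum.comap (inclR k A B) t).asIdeal := by
      have := Ideal.map_le_iff_le_comap.1 (show Ideal.map (inclR k A B) (b i) ≤ t.asIdeal from ht)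
      exact this
    have h3 : PrimeSpectrum.comap (inclR k A B) t ∈ (U i)ᶜ := by
      have h4 : PrimeSpectrum.comap (inclR k A B) t ∈
          PrimeSpectrum.zeroLocus (PrimeSpectrum.vanishingIdeal (U i)ᶜ : Set B) := by
        rw [PrimeSpectrum.mem_zeroLocus]
        exact h2
      rw [PrimeSpectrum.zeroLocus_vanishingIdeal_eq_closure, hcl.closure_eq] at h4
      exact h4
    intro hmem
    have h5 : t ∈ PrimeSpectrum.comap (rhoR k A B) ⁻¹' U i := hmem
    rw [hUinv i] at h5
    exact h3 h5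
  -- Fact 4
  have fact4 : (⨆ i, coreI k A (b i)) = ⊤ := by
    by_contra hne
    obtain ⟨m, hm, hle⟩ := Ideal.exists_le_maximal _ hne
    obtain ⟨i, hi⟩ := hUcov ⟨m, hm.isPrime⟩
    have : (⟨m, hm.isPrime⟩ : PrimeSpectrum B) ∈ PrimeSpectrum.zeroLocus (coreI k A (b i) : Set B) := by
      rw [PrimeSpectrum.mem_zeroLocus]
      exact (le_iSup (fun i => coreI k A (b i)) i).trans hle
    exact fact3 i this hi
  -- Fact 5
  let J : Ideal (GLin.invariants k A B) := ⨆ i, (coreI k A (b i)).comap (phiR k A B)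
  have key : ∀ x ∈ ⨆ i, coreI k A (b i),
      (⟨rey α x, rey_mem α hα x⟩ : GLin.invariants k A B) ∈ J := by
    intro x hx
    refine Submodule.iSup_induction (fun i => coreI k A (b i))
      (motive := fun x => (⟨rey α x, rey_mem α hα x⟩ : GLin.invariants k A B) ∈ J) hx ?_ ?_ ?_
    · intro i x hx
      have h1 : rey α x ∈ coreI k A (b i) :=
        rey_mem_ideal α (coreI k A (b i)) (isSubcomod_coreI (b i)) x hx
      have h2 : (⟨rey α x, rey_mem α hα x⟩ : GLin.invariants k A B) ∈
          (coreI k A (b i)).comap (phiR k A B) := h1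
      exact (le_iSup (fun i => (coreI k A (b i)).comap (phiR k A B)) i) h2
    · have : (⟨rey α 0, rey_mem α hα 0⟩ : GLin.invariants k A B) = 0 :=
        Subtype.ext (map_zero _)
      show (⟨rey α 0, rey_mem α hα 0⟩ : GLin.invariants k A B) ∈ J
      rw [this]
      exact J.zero_mem
    · intro x y hx hy
      have : (⟨rey α (x + y), rey_mem α hα (x + y)⟩ : GLin.invariants k A B) =
          ⟨rey α x, rey_mem α hα x⟩ + ⟨rey α y, rey_mem α hα y⟩ :=
        Subtype.ext (map_add _ _ _)
      show (⟨rey α (x + y), rey_mem α hα (x + y)⟩ : GLin.invariants k A B) ∈ J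
      rw [this]
      exact J.add_mem hx hy
  have fact5 : J = ⊤ := by
    rw [Ideal.eq_top_iff_one]
    have h1 := key 1 (by rw [fact4]; trivial)
    have h2 : (⟨rey α 1, rey_mem α hα 1⟩ : GLin.invariants k A B) = 1 :=
      Subtype.ext (rey_of_mem α hα1 1 (one_mem _))
    rwa [h2] at h1
  -- Fact 6
  have fact6 : ∃ i, ¬ ((coreI k A (b i)).comap (phiR k A B) ≤ p.asIdeal) := by
    by_contra hall
    push Not at hall
    have : J ≤ p.asIdeal := iSup_le hall
    rw [fact5] at this
    exact p.2.ne_top (top_le_iff.1 this)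
  obtain ⟨i, hi⟩ := fact6
  obtain ⟨c, hc1, hc2⟩ := SetLike.not_le_iff_exists.1 hi
  refine ⟨i, c, hc2, ?_⟩
  intro q hq
  by_contra hqU
  apply hq
  have h1 : phiR k A B c ∈ b i := coreI_le (b i) hc1
  exact (PrimeSpectrum.mem_vanishingIdeal _ _).1 h1 q hqU

theorem qhom_hopf (α : A →ₗ[k] B) (hα : Hoch.IsComodHom A α) (hα1 : α 1 = 1) :
    QHom (phiR k A B) := by
  constructor
  · exact Subtype.val_injective
  · intro p
    have h : p ∈ Set.range (PrimeSpectrum.comap (algebraMap (GLin.invariants k A B) B)) := by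
      rw [PrimeSpectrum.mem_range_comap_iff]
      exact comap_map_eq α hα hα1 p.asIdeal
    exact h

end

theorem main_hopf (k : Type u) [CommRing k] (A : Type u) [CommRing A] [HopfAlgebra k A]
    [Module.Flat k A] (B : Type u) [CommRing B] [Algebra k B] [HopfRep.Comod k A B]
    [GLin.IsCoactAlg k A B]
    (htame : ∃ α : A →ₗ[k] B, Hoch.IsComodHom A α ∧ α 1 = 1)
    (Z : Scheme.{u}) (ψ : Spec (CommRingCat.of B) ⟶ Z)
    (hψ : Spec.map (CommRingCat.ofHom (GLin.coactAlgHom k A B).toRingHom) ≫ ψ =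
      Spec.map (CommRingCat.ofHom
        (Algebra.TensorProduct.includeLeftRingHom : B →+* TensorProduct k B A)) ≫ ψ) :
    ∃! χ : Spec (CommRingCat.of (GLin.invariants k A B)) ⟶ Z,
      Spec.map (CommRingCat.ofHom (algebraMap (GLin.invariants k A B) B)) ≫ χ = ψ := by
  obtain ⟨α, hα, hα1⟩ := htame
  refine existsUnique_desc (phiR k A B) (rhoR k A B) (inclR k A B) ?_ (qhom_hopf α hα hα1) ?_
    (fun κ U hUo hUinv hUcov p => H4_hopf α hα hα1 κ U hUo hUinv hUcov p) Z ψ hψ
  · apply RingHom.ext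
    intro c
    exact c.2
  · intro b hb
    exact ⟨⟨b, hb⟩, rfl⟩

end Groth.Agent.Lib.Helper28.CatQuot
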