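import Mathlib
import Groth.Prelude.Def_W4bk4git07Quot
import Groth.Agent.Lib.Helper28.CatQuot.General

/-!
# Orbits of a geometric quotient are fibres

For a geometric quotient `φ : X ⟶ Y` of `X` by `G` and a `T`-point `f` of `X`, the image of
`psi a f : G ⊗ T ⟶ X ⊗ T` is the preimage under `φ ▷ T` of the image of the graph of `f ≫ φ`.
Consequences: the action is closed, and `Y` is separated iff the image of `(σ, p₂)` is closed.
-/

set_option autoImplicit false

universe u

open CategoryTheory AlgebraicGeometry Limits MonoidalCategory CartesianMonoidalCategory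

namespace Groth.Agent.Lib.Helper28.CatQuot

lemma range_eq_of_isPullback {P A B C : Scheme.{u}} {fst : P ⟶ A} {snd : P ⟶ B} {f : A ⟶ C}
    {g : B ⟶ C} (h : IsPullback fst snd f g) :
    Set.range fst.base = f.base ⁻¹' Set.range g.base := by
  ext x
  constructor
  · rintro ⟨z, rfl⟩
    refine ⟨snd.base z, ?_⟩
    have := congrArg (fun t : P ⟶ C => t.base z) h.w
    exact this.symm
  · rintro ⟨y, hy⟩
    obtain ⟨z, hz1, hz2⟩ := Scheme.Pullback.exists_preimage_pullback (f := f) (g := g) x y hy.symm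
    refine ⟨h.isoPullback.inv.base z, ?_⟩
    have := congrArg (fun t : pullback f g ⟶ A => t.base z) h.isoPullback_inv_fst
    exact this.trans hz1

lemma isQuotientMap_of_isPullback {A B A' B' : Scheme.{u}} {g : A ⟶ B}
    (hg : GIT.IsUnivSubmersive g) {f' : A' ⟶ A} {g' : A' ⟶ B'} {f : B' ⟶ B}
    (sq : IsPullback f' g' g f) : Topology.IsQuotientMap g'.base := by
  have := MorphismProperty.of_isPullback
    (P := (topologically @Topology.IsQuotientMap).universally) sq hg
  exact (MorphismProperty.universally_le _) _ this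

lemma isClosed_range_of_section {T Z : Scheme.{u}} {Ω : Type u} [Field Ω]
    (e : T ≅ Spec (CommRingCat.of Ω)) (s : T ⟶ Z) (π : Z ⟶ T) (hs : s ≫ π = 𝟙 T) :
    IsClosed (Set.range s.base) := by
  haveI : IsAffine T := IsAffine.of_isIso e.hom
  have hsub : ∀ t t' : T, t = t' := by
    intro t t'
    apply e.hom.homeomorph.injective
    exact Subsingleton.elim (α := PrimeSpectrum Ω) _ _
  rw [← closure_subset_iff_isClosed]
  intro z hz
  obtain ⟨V, hV, hzV⟩ := exists_affineOpen_mem z
  obtain ⟨_, hw1, ⟨t, rfl⟩⟩ := mem_closure_iff.1 hz V.1 V.2 hzV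
  have hrange : Set.range s.base ⊆ (V : Set Z) := by
    rintro _ ⟨t', rfl⟩
    rw [hsub t' t]; exact hw1
  have hrange' : Set.range s ⊆ Set.range V.ι := by
    rw [Scheme.Opens.range_ι]; exact hrange
  have hsV : IsOpenImmersion.lift V.ι s hrange' ≫ V.ι = s := IsOpenImmersion.lift_fac _ _ _
  haveI : IsAffine V.toScheme := hV
  haveI : IsClosedImmersion (IsOpenImmersion.lift V.ι s hrange' ≫ (V.ι ≫ π)) := by
    rw [← Category.assoc, hsV, hs]; infer_instance
  haveI : IsClosedImmersion (IsOpenImmersion.lift V.ι s hrange') :=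
    IsClosedImmersion.of_comp _ (V.ι ≫ π)
  have hcl : IsClosed (Set.range (IsOpenImmersion.lift V.ι s hrange').base) :=
    (IsOpenImmersion.lift V.ι s hrange').isClosedEmbedding.isClosed_range
  have hfac : ∀ t' : T, V.ι.base ((IsOpenImmersion.lift V.ι s hrange').base t') = s.base t' :=
    fun t' => congrArg (fun q : T ⟶ Z => q.base t') hsV
  by_contra hzr
  have hz' : (⟨z, hzV⟩ : V) ∉ Set.range (IsOpenImmersion.lift V.ι s hrange').base := by
    rintro ⟨t', ht'⟩
    apply hzr
    refine ⟨t', ?_⟩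
    rw [← hfac t', ht']
    rfl
  have hO : IsOpen (V.ι.base '' (Set.range (IsOpenImmersion.lift V.ι s hrange').base)ᶜ) :=
    V.ι.isOpenEmbedding.isOpenMap _ hcl.isOpen_compl
  obtain ⟨_, ⟨w, hw, rfl⟩, ⟨t', ht'⟩⟩ := mem_closure_iff.1 hz _ hO ⟨⟨z, hzV⟩, hz', rfl⟩
  apply hw
  refine ⟨t', ?_⟩
  apply V.ι.isOpenEmbedding.injective
  exact (hfac t').trans ht'

section Chain

variable {S : Scheme.{u}}

@[reassoc]
lemma whisk_snd_left (A : Over S) {B C : Over S} (f : B ⟶ C) :
    (A ◁ f).left ≫ (snd A C).left = (snd A B).left ≫ f.left := by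
  rw [← Over.comp_left, ← Over.comp_left, whiskerLeft_snd]

@[reassoc]
lemma whisk_fst_left (A : Over S) {B C : Over S} (f : B ⟶ C) :
    (A ◁ f).left ≫ (fst A C).left = (fst A B).left := by
  rw [← Over.comp_left, whiskerLeft_fst]

@[reassoc]
lemma wr_fst_left {A B : Over S} (f : A ⟶ B) (C : Over S) :
    (f ▷ C).left ≫ (fst B C).left = (fst A C).left ≫ f.left := by
  rw [← Over.comp_left, ← Over.comp_left, whiskerRight_fst]

@[reassoc]
lemma wr_snd_left {A B : Over S} (f : A ⟶ B) (C : Over S) :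
    (f ▷ C).left ≫ (snd B C).left = (snd A C).left := by
  rw [← Over.comp_left, whiskerRight_snd]

/-- `A ⊗ B = (A ⊗ C) ×_C B`. -/
lemma isPullback_whisker (A : Over S) {B C : Over S} (f : B ⟶ C) :
    IsPullback (A ◁ f).left (snd A B).left (snd A C).left f.left := by
  refine IsPullback.of_right (h₁₂ := (fst A C).left) (h₂₂ := C.hom) (v₁₃ := A.hom) ?_
    (whisk_snd_left A f) (IsPullback.of_hasPullback A.hom C.hom)
  rw [whisk_fst_left, Over.w f]
  exact IsPullback.of_hasPullback A.hom B.hom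

/-- `A ⊗ C = A ×_B (B ⊗ C)`. -/
lemma isPullback_phiT {A B : Over S} (f : A ⟶ B) (C : Over S) :
    IsPullback (f ▷ C).left (fst A C).left (fst B C).left f.left := by
  refine IsPullback.of_right (h₁₂ := (snd B C).left) (h₂₂ := B.hom) (v₁₃ := C.hom) ?_
    (wr_fst_left f C) (IsPullback.of_hasPullback B.hom C.hom).flip
  rw [wr_snd_left, Over.w f]
  exact (IsPullback.of_hasPullback A.hom C.hom).flip

/-- The graph of `g` is the pullback of the diagonal. -/
lemma isPullback_graph {B C : Over S} (g : B ⟶ C) :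
    IsPullback g.left (lift g (𝟙 B)).left (lift (𝟙 C) (𝟙 C)).left (C ◁ g).left := by
  refine IsPullback.of_bot (v₂₁ := (snd C B).left) (v₂₂ := (snd C C).left) (h₃₁ := g.left) ?_ ?_
    (isPullback_whisker C g)
  · have e1 : (lift g (𝟙 B)).left ≫ (snd C B).left = 𝟙 B.left := by
      rw [← Over.comp_left, lift_snd]; rfl
    have e2 : (lift (𝟙 C) (𝟙 C)).left ≫ (snd C C).left = 𝟙 C.left := by
      rw [← Over.comp_left, lift_snd]; rfl
    rw [e1, e2]
    exact IsPullback.of_vert_isIso ⟨by rw [Category.comp_id, Category.id_comp]⟩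
  · rw [← Over.comp_left, ← Over.comp_left]
    congr 1
    apply CartesianMonoidalCategory.hom_ext <;> simp

variable {G X Y T : Over S} [GrpObj G] (a : AlgGrp.Action G X) (φ : X ⟶ Y)
  (hinv : GIT.IsInvariant a φ) (f : T ⟶ X)

/-- `X ×_Y T ⟶ X ×_Y X`. -/
noncomputable def mapP : pullback φ.left (f.left ≫ φ.left) ⟶ pullback φ.left φ.left :=
  pullback.map φ.left (f.left ≫ φ.left) φ.left φ.left (𝟙 _) f.left (𝟙 _) (by simp) (by simp)

@[reassoc]
lemma mapP_fst : mapP φ f ≫ pullback.fst φ.left φ.left =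
    pullback.fst φ.left (f.left ≫ φ.left) := by
  unfold mapP
  exact (pullback.lift_fst _ _ _).trans (Category.comp_id _)

@[reassoc]
lemma mapP_snd : mapP φ f ≫ pullback.snd φ.left φ.left =
    pullback.snd φ.left (f.left ≫ φ.left) ≫ f.left := by
  unfold mapP
  exact pullback.lift_snd _ _ _

lemma isPullback_mapP : IsPullback (mapP φ f) (pullback.snd φ.left (f.left ≫ φ.left))
    (pullback.snd φ.left φ.left) f.left := by
  refine IsPullback.of_right ?_ (mapP_snd φ f) (IsPullback.of_hasPullback φ.left φ.left)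
  rw [mapP_fst]
  exact IsPullback.of_hasPullback φ.left (f.left ≫ φ.left)

/-- `G ⊗ T ⟶ X ×_Y T`. -/
noncomputable def psi' : (G ⊗ T).left ⟶ pullback φ.left (f.left ≫ φ.left) :=
  pullback.lift ((G ◁ f).left ≫ a.act.left) (snd G T).left (by
    rw [Category.assoc, hinv.left, whisk_snd_left_assoc])

@[reassoc]
lemma psi'_fst : psi' a φ hinv f ≫ pullback.fst φ.left (f.left ≫ φ.left) =
    (G ◁ f).left ≫ a.act.left := pullback.lift_fst _ _ _

@[reassoc]
lemma psi'_snd : psi' a φ hinv f ≫ pullback.snd φ.left (f.left ≫ φ.left) =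
    (snd G T).left := pullback.lift_snd _ _ _

lemma psiY_fst : GIT.PsiY a φ hinv ≫ pullback.fst φ.left φ.left = a.act.left :=
  pullback.lift_fst _ _ _

lemma psiY_snd : GIT.PsiY a φ hinv ≫ pullback.snd φ.left φ.left = (snd G X).left :=
  pullback.lift_snd _ _ _

lemma psi'_mapP : psi' a φ hinv f ≫ mapP φ f = (G ◁ f).left ≫ GIT.PsiY a φ hinv := by
  apply pullback.hom_ext
  · rw [Category.assoc, mapP_fst, psi'_fst, Category.assoc, psiY_fst]
  · rw [Category.assoc, mapP_snd, psi'_snd_assoc, Category.assoc, psiY_snd, whisk_snd_left]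

lemma isPullback_psi' : IsPullback (psi' a φ hinv f) (G ◁ f).left (mapP φ f)
    (GIT.PsiY a φ hinv) := by
  refine IsPullback.of_right (h₁₂ := pullback.snd φ.left (f.left ≫ φ.left))
    (h₂₂ := pullback.snd φ.left φ.left) (v₁₃ := f.left) ?_ (psi'_mapP a φ hinv f)
    (isPullback_mapP φ f).flip
  rw [psi'_snd, psiY_snd]
  exact (isPullback_whisker G f).flip

lemma surjective_psi' (hsurj : Function.Surjective (GIT.PsiY a φ hinv).base) :
    Function.Surjective (psi' a φ hinv f).base := by
  have : Surjective (GIT.PsiY a φ hinv) := ⟨hsurj⟩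
  have : Surjective (psi' a φ hinv f) :=
    MorphismProperty.of_isPullback (P := @Surjective) (isPullback_psi' a φ hinv f).flip
      inferInstance
  exact this.surj

/-- `X ×_Y T ⟶ X ⊗ T`. -/
noncomputable def jT : pullback φ.left (f.left ≫ φ.left) ⟶ (X ⊗ T).left :=
  pullback.lift (pullback.fst _ _) (pullback.snd _ _) (by
    rw [← Over.w f, ← Over.w φ, pullback.condition_assoc, Category.assoc])

@[reassoc]
lemma jT_fst : jT φ f ≫ (fst X T).left = pullback.fst φ.left (f.left ≫ φ.left) :=
  pullback.lift_fst _ _ _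

@[reassoc]
lemma jT_snd : jT φ f ≫ (snd X T).left = pullback.snd φ.left (f.left ≫ φ.left) :=
  pullback.lift_snd _ _ _

lemma psi_left_eq : (GIT.psi a f).left = psi' a φ hinv f ≫ jT φ f := by
  have h1 : (GIT.psi a f).left ≫ (fst X T).left = (G ◁ f).left ≫ a.act.left := by
    rw [← Over.comp_left, ← Over.comp_left]; unfold GIT.psi; rw [lift_fst]
  have h2 : (GIT.psi a f).left ≫ (snd X T).left = (snd G T).left := by
    rw [← Over.comp_left]; unfold GIT.psi; rw [lift_snd]
  apply pullback.hom_ext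
  · have e : (psi' a φ hinv f ≫ jT φ f) ≫ (fst X T).left = (G ◁ f).left ≫ a.act.left := by
      rw [Category.assoc, jT_fst, psi'_fst]
    exact h1.trans e.symm
  · have e : (psi' a φ hinv f ≫ jT φ f) ≫ (snd X T).left = (snd G T).left := by
      rw [Category.assoc, jT_snd, psi'_snd]
    exact h2.trans e.symm

lemma isPullback_jT : IsPullback (pullback.snd φ.left (f.left ≫ φ.left)) (jT φ f)
    (lift (f ≫ φ) (𝟙 T)).left (φ ▷ T).left := by
  have e1 : (lift (f ≫ φ) (𝟙 T)).left ≫ (fst Y T).left = f.left ≫ φ.left := by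
    rw [← Over.comp_left, lift_fst, Over.comp_left]
  have e2 : (lift (f ≫ φ) (𝟙 T)).left ≫ (snd Y T).left = 𝟙 T.left := by
    rw [← Over.comp_left, lift_snd]; rfl
  refine IsPullback.of_bot (v₂₁ := (fst X T).left) (v₂₂ := (fst Y T).left) (h₃₁ := φ.left) ?_ ?_
    (isPullback_phiT φ T)
  · rw [jT_fst, e1]
    exact (IsPullback.of_hasPullback φ.left (f.left ≫ φ.left)).flip
  · apply pullback.hom_ext
    · have : (pullback.snd φ.left (f.left ≫ φ.left) ≫ (lift (f ≫ φ) (𝟙 T)).left) ≫
          (fst Y T).left = (jT φ f ≫ (φ ▷ T).left) ≫ (fst Y T).left := by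
        rw [Category.assoc, e1, Category.assoc, wr_fst_left, jT_fst_assoc, pullback.condition]
      exact this
    · have : (pullback.snd φ.left (f.left ≫ φ.left) ≫ (lift (f ≫ φ) (𝟙 T)).left) ≫
          (snd Y T).left = (jT φ f ≫ (φ ▷ T).left) ≫ (snd Y T).left := by
        rw [Category.assoc, e2, Category.comp_id, Category.assoc, wr_snd_left, jT_snd]
      exact this

theorem range_psi_eq (hsurj : Function.Surjective (GIT.PsiY a φ hinv).base) :
    Set.range (GIT.psi a f).left.base =
      (φ ▷ T).left.base ⁻¹' Set.range (lift (f ≫ φ) (𝟙 T)).left.base := by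
  rw [← range_eq_of_isPullback (isPullback_jT φ f).flip, psi_left_eq a φ hinv f]
  have hs := surjective_psi' a φ hinv f hsurj
  ext z
  constructor
  · rintro ⟨w, rfl⟩
    exact ⟨(psi' a φ hinv f).base w, rfl⟩
  · rintro ⟨w, rfl⟩
    obtain ⟨w', rfl⟩ := hs w
    exact ⟨w', rfl⟩

end Chain

theorem closedAction_of_geomQuot (S : Scheme.{u}) (G X Y : Over S) [GrpObj G]
    (a : AlgGrp.Action G X) (φ : X ⟶ Y) (h : GIT.IsGeomQuot a φ) : GIT.IsClosedAction a := by
  intro Ω _ _ T e f
  rw [range_psi_eq a φ h.inv f h.orbit]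
  refine (isClosed_range_of_section e (lift (f ≫ φ) (𝟙 T)).left (snd Y T).left ?_).preimage
    (φ ▷ T).left.continuous
  rw [← Over.comp_left, lift_snd]; rfl

theorem separated_iff_of_geomQuot (S : Scheme.{u}) (G X Y : Over S) [GrpObj G]
    (a : AlgGrp.Action G X) (φ : X ⟶ Y) (h : GIT.IsGeomQuot a φ) :
    IsSeparated Y.hom ↔ IsClosed (Set.range (GIT.psi a (𝟙 X)).left.base) := by
  have hr := range_psi_eq a φ h.inv (𝟙 X) h.orbit
  rw [Category.id_comp] at hr
  have hC := isPullback_graph φ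
  have hΔ : (lift (𝟙 Y) (𝟙 Y)).left = pullback.diagonal Y.hom := rfl
  constructor
  · intro hsep
    haveI : IsClosedImmersion (lift (𝟙 Y) (𝟙 Y)).left := by
      rw [hΔ]; infer_instance
    haveI : IsClosedImmersion (lift φ (𝟙 X)).left :=
      MorphismProperty.of_isPullback (P := @IsClosedImmersion) hC inferInstance
    rw [hr]
    exact ((lift φ (𝟙 X)).left.isClosedEmbedding.isClosed_range).preimage
      (φ ▷ X).left.continuous
  · intro hcl
    rw [hr, range_eq_of_isPullback hC.flip] at hcl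
    have q1 : Topology.IsQuotientMap (φ ▷ X).left.base :=
      isQuotientMap_of_isPullback h.subm (isPullback_phiT φ X).flip
    have q2 : Topology.IsQuotientMap (Y ◁ φ).left.base :=
      isQuotientMap_of_isPullback h.subm (isPullback_whisker Y φ).flip
    have hcl' : IsClosed (Set.range (lift (𝟙 Y) (𝟙 Y)).left.base) :=
      q2.isClosed_preimage.1 (q1.isClosed_preimage.1 hcl)
    rw [hΔ] at hcl'
    have : IsPreimmersion (pullback.diagonal Y.hom) := inferInstance
    exact ⟨IsClosedImmersion.of_isPreimmersion _ hcl'⟩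

end Groth.Agent.Lib.Helper28.CatQuot
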